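import Groth.Agent.ResProp.EF.Grp
import Groth.Agent.Hoch.K915.DSq
import Groth.Agent.HopfRep.K187.HochMap

/-!
# Definitions and node statements for G2b (1.3, 1.5): `A^nat`, divided power algebras, one step extensions, killing
-/

set_option autoImplicit false

universe u

open TensorProduct

noncomputable section

namespace Groth.Agent.ResProp.EF.K624

open Groth.Agent.ResProp.EF.Grp

variable {k : Type u} [CommRing k]

/-- torsion-free over `ℤ` -/
abbrev TF (R : Type u) [CommRing R] : Prop := ∀ n : ℕ, n ≠ 0 → IsSMulRegular R (n : ℕ)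

/-- the divided power algebra on `n` generators, by its properties -/
structure PDAlg (k : Type u) [CommRing k] (n : ℕ) : Type (u + 1) where
  P : Type u
  [cr : CommRing P]
  [al : Algebra k P]
  [fr : Module.Free k P]
  x : Fin n → P
  nx : ∀ i, IsNat (x i)
  aug : P →ₐ[k] k
  aug_x : ∀ i, aug (x i) = 0
  ker_aug : ∀ a : P, aug a = 0 → IsNat a
  univ : ∀ (R : Type u) [CommRing R] [Algebra k R], TF R → ∀ y : Fin n → R, (∀ i, IsNat (y i)) →
    ∃! h : P →ₐ[k] R, ∀ i, h (x i) = y i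

attribute [instance] PDAlg.cr PDAlg.al PDAlg.fr

/-- J2 -/
def HasPD (k : Type u) [CommRing k] : Prop := ∀ n : ℕ, Nonempty (PDAlg k n)

/-- J8: the coordinate ring of a one step extension -/
def OneStepEquiv (E : Gp k) : Prop :=
  ∀ (S : OneStep E) (n : ℕ) (b : Module.Basis (Fin n) k S.V.V) (D : PDAlg k n),
    ∃ e : S.E'.O ≃ₐ[k] (E.O ⊗[k] D.P), (∀ a : E.O, e (S.ι a) = a ⊗ₜ 1) ∧
      ((e : S.E'.O →ₐ[k] (E.O ⊗[k] D.P)).toLinearMap.lTensor S.V.V) S.x = ∑ i, b i ⊗ₜ[k] ((1 : E.O) ⊗ₜ[k] D.x i)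

/-- the invariant of admissible groups -/
def Inv {H E : Gp k} (ι : H.O →ₐc[k] E.O) : Prop :=
  (∀ a : E.O, ∃ b : H.O, IsNat (a - ι b)) ∧ ∃ r : E.O →ₗ[k] H.O, ∀ b : H.O, r (ι b) = b

/-- J9 -/
def InvOfAdm (H : Gp k) : Prop := ∀ (E : Gp k) (ι : H.O →ₐc[k] E.O), Adm H E ι → Inv ι

/-- J10a: after tensoring with `End T`, a cocycle with values in a lattice has `nat` coefficients up to a coboundary. -/
def KillLat (H : Gp k) : Prop :=
  ∀ (E : Gp k) (ι : H.O →ₐc[k] E.O), Inv ι → ∀ (V : GMod E), Module.Free k V.V → Module.Finite k V.V →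
    ∀ c : V.C 2, V.d 2 c = 0 → ∃ (T : GMod H) (_ : IsLat T) (e : EndStr T) (b : (V.tens (e.mod.res ι)).C 1),
      ∀ f : (V.tens (e.mod.res ι)).V →ₗ[k] k,
        IsNat (coef2 (k := k) (A := E.O) f
          (cmap V (V.tens (e.mod.res ι)) (tmulR V (e.mod.res ι) 1) 2 c - (V.tens (e.mod.res ι)).d 1 b))

end Groth.Agent.ResProp.EF.K624
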