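import Groth.Agent.ResProp.EF.K624.InvAdm
import Groth.Agent.ResProp.EF.K364.One
import Groth.Agent.ResProp.EF.K226.SerreLift
set_option autoImplicit false
universe u
open TensorProduct
noncomputable section
namespace Groth.Agent.ResProp.EF.K624
open Groth.Agent.ResProp.EF.Grp
variable {k : Type u} [CommRing k]

theorem liftClass2 (p : ℕ) [IsLb p k] (E : Gp k) : LiftClass2 E := by
  have _i := IsLb.dom p (k := k)
  have _i := IsLb.pid p (k := k)
  exact K226.liftClass2 E

/-- 1.5 from the two open nodes -/
theorem kill_of (p : ℕ) [IsLb p k] (H : Gp k) (h1 : KillLat H) (h2 : ∀ E : Gp k, HasOneStep E) : Kill H :=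
  K364.kill H (invOfAdm p H) h1 h2 (fun E => liftClass2 p E)

end Groth.Agent.ResProp.EF.K624
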