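import Groth.Agent.ResProp.EF.K624.Final0
import Groth.Agent.ResProp.EF.K930.HasOne
import Groth.Agent.ResProp.EF.K983.KillQ
set_option autoImplicit false
universe u
open TensorProduct
noncomputable section
namespace Groth.Agent.ResProp.EF.K624
open Groth.Agent.ResProp.EF.Grp
variable {k : Type u} [CommRing k]

/-- **1.5, the killing lemma**, from 1.4 (`KillModP`) and `RedModP`. -/
theorem kill (p : ℕ) [IsLb p k] (H : Gp k) (hr : RedModP p H) (hK : KillModP p H) : Kill H :=
  kill_of_hasOneStep p H hr hK (fun E => K930.hasOneStep p E)

/-- the killing lemma over a field of characteristic zero -/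
theorem kill_field (k : Type u) [Field k] [CharZero k] (H : Gp k) : Kill H :=
  K983.kill_of_field H (fun E => K226.liftClass2 E) (fun E => K930.hasOneStep_of k E)

end Groth.Agent.ResProp.EF.K624
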