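import Groth.Agent.ResProp.EF.K624.Cut
import Groth.Agent.ResProp.EF.K772.KillLat
set_option autoImplicit false
universe u
open TensorProduct
noncomputable section
namespace Groth.Agent.ResProp.EF.K624
open Groth.Agent.ResProp.EF.Grp
variable {k : Type u} [CommRing k]

/-- 1.5, from 1.4 (`KillModP`), `RedModP` and the existence of one step extensions -/
theorem kill_of_hasOneStep (p : ℕ) [hL : IsLb p k] (H : Gp k) (hr : RedModP p H) (hK : KillModP p H)
    (hS : ∀ E : Gp k, HasOneStep E) : Kill H :=
  kill_of p H (K772.killLat hL H hr hK) hS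

end Groth.Agent.ResProp.EF.K624
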