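import Groth.Agent.ResProp.EF.K624.Nodes
import Groth.Agent.ResProp.EF.K772.AdmInv
set_option autoImplicit false
universe u
open TensorProduct
noncomputable section
namespace Groth.Agent.ResProp.EF.K624
open Groth.Agent.ResProp.EF.Grp
variable {k : Type u} [CommRing k]

theorem invOfAdm (p : ℕ) [IsLb p k] (H : Gp k) : InvOfAdm H := by
  intro E ι h
  have _i := IsLb.dom p (k := k)
  have _i := IsLb.char0 p (k := k)
  obtain ⟨σ, hσ⟩ := K772.exists_ret h
  exact ⟨fun a => ⟨σ a, hσ.nat a⟩, σ.toLinearMap, fun b => hσ.ret b⟩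

end Groth.Agent.ResProp.EF.K624
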